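import Mathlib
import Cfsg.Agent.Lib.Helper67.LSF.Defs

/-!
# LSF [SIG]: an intertwining permutation exists for every map of the system

Two free actions of a finite group on finite sets of the same cardinality are isomorphic.
-/

set_option autoImplicit false

namespace Cfsg.Agent.Lib.Helper45.LSF

open Cfsg Cfsg.Agent.Lib.Helper67.LSF

universe u v w

/-- a free action is a product of the orbit space with the group -/
theorem sig_decomp {P : Type v} {A : Type w} [Group P] (act : P →* Equiv.Perm A)
    (h : ∀ u a, act u a = a → u = 1) :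
    ∃ (Ω : Type w) (f : Ω × P ≃ A), ∀ (c : Ω) (u v : P), act u (f (c, v)) = f (c, u * v) := by
  classical
  let s : Setoid A :=
    { r := fun a a' => ∃ u, act u a = a'
      iseqv :=
        { refl := fun a => ⟨1, by simp⟩
          symm := fun {a a'} ⟨u, hu⟩ => ⟨u⁻¹, by rw [← hu]; simp⟩
          trans := fun {a b c} ⟨u, hu⟩ ⟨v, hv⟩ =>
            ⟨v * u, by rw [map_mul, Equiv.Perm.mul_apply, hu, hv]⟩ } }
  have hinj : Function.Injective (fun p : Quotient s × P => act p.2 (Quotient.out p.1)) := by
    rintro ⟨c, u⟩ ⟨c', u'⟩ heq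
    have heq' : act u (Quotient.out c) = act u' (Quotient.out c') := heq
    have hrel : s.r (Quotient.out c) (Quotient.out c') :=
      ⟨u'⁻¹ * u, by rw [map_mul, Equiv.Perm.mul_apply, heq']; simp⟩
    have hc : c = c' := by
      rw [← Quotient.out_eq c, ← Quotient.out_eq c']
      exact Quotient.sound hrel
    subst hc
    have h1 : act (u'⁻¹ * u) (Quotient.out c) = Quotient.out c := by
      rw [map_mul, Equiv.Perm.mul_apply, heq']; simp
    have h2 := h _ _ h1
    have h3 : u = u' := by
      rw [inv_mul_eq_one] at h2; exact h2.symm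
    rw [h3]
  have hsurj : Function.Surjective (fun p : Quotient s × P => act p.2 (Quotient.out p.1)) := by
    intro a
    have h1 : s.r (Quotient.out (Quotient.mk s a)) a := Quotient.exact (Quotient.out_eq _)
    obtain ⟨u, hu⟩ := h1
    exact ⟨(Quotient.mk s a, u), hu⟩
  refine ⟨Quotient s, Equiv.ofBijective _ ⟨hinj, hsurj⟩, ?_⟩
  intro c u v
  show act u (act v (Quotient.out c)) = act (u * v) (Quotient.out c)
  rw [map_mul]; rfl

/-- two free actions of a finite group on finite sets of the same cardinality are isomorphic -/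
theorem sig_free_iso {P : Type v} {A B : Type w} [Group P] [Finite P] [Finite A] [Finite B]
    (actA : P →* Equiv.Perm A) (actB : P →* Equiv.Perm B)
    (hA : ∀ u a, actA u a = a → u = 1) (hB : ∀ u b, actB u b = b → u = 1)
    (hcard : Nat.card A = Nat.card B) :
    ∃ σ : A ≃ B, ∀ u a, σ (actA u a) = actB u (σ a) := by
  obtain ⟨ΩA, fA, hfA⟩ := sig_decomp actA hA
  obtain ⟨ΩB, fB, hfB⟩ := sig_decomp actB hB
  have hfinA' : Finite (ΩA × P) := Finite.of_equiv A fA.symm
  have hfinA : Finite ΩA := Finite.prod_left P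
  have hfinB' : Finite (ΩB × P) := Finite.of_equiv B fB.symm
  have hfinB : Finite ΩB := Finite.prod_left P
  have hc : Nat.card ΩA = Nat.card ΩB := by
    have h1 : Nat.card ΩA * Nat.card P = Nat.card A := by
      rw [← Nat.card_prod]; exact Nat.card_congr fA
    have h2 : Nat.card ΩB * Nat.card P = Nat.card B := by
      rw [← Nat.card_prod]; exact Nat.card_congr fB
    have hP : 0 < Nat.card P := Nat.card_pos
    exact Nat.eq_of_mul_eq_mul_right hP (by rw [h1, h2, hcard])
  obtain ⟨β⟩ := Finite.card_eq.mp hc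
  refine ⟨fA.symm.trans ((β.prodCongr (Equiv.refl P)).trans fB), ?_⟩
  intro u a
  obtain ⟨⟨c, v⟩, rfl⟩ := fA.surjective a
  rw [hfA]
  simp only [Equiv.trans_apply, Equiv.symm_apply_apply, Equiv.prodCongr_apply, Prod.map,
    Equiv.refl_apply]
  rw [hfB]

/-- **[SIG]** an intertwining permutation exists for every map of the system. -/
theorem pkgSig : PkgSig.{u} := by
  intro Ω _ S _ F P φ h
  have hPS : P ≤ S := (F.le_of_mem h).1
  have hφS : ∀ x : P, φ x ∈ S := (F.le_of_mem h).2
  have hφi : Function.Injective φ := F.injective_of_mem h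
  have hPfin : Finite P := Finite.of_injective (Subgroup.inclusion hPS)
    (Subgroup.inclusion_injective hPS)
  obtain ⟨σ, hσ⟩ := sig_free_iso (P := P) (A := S) (B := S)
    ((lam S).comp (Subgroup.inclusion hPS)) ((lam S).comp (φ.codRestrict S hφS))
    (by
      intro u a hu
      have h1 : (⟨u, hPS u.2⟩ : S) * a = a := hu
      have h2 : (⟨u, hPS u.2⟩ : S) = 1 := mul_eq_right.mp h1
      have h3 : (u : Ω) = 1 := congrArg (Subtype.val : S → Ω) h2
      exact Subtype.ext h3)
    (by
      intro u a hu
      have h1 : (⟨φ u, hφS u⟩ : S) * a = a := hu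
      have h2 : (⟨φ u, hφS u⟩ : S) = 1 := mul_eq_right.mp h1
      have h3 : φ u = 1 := congrArg (Subtype.val : S → Ω) h2
      exact hφi (by rw [h3, map_one]))
    rfl
  exact ⟨σ, fun u x => hσ u x⟩

end Cfsg.Agent.Lib.Helper45.LSF
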